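import Cfsg.Agent.ThompsonWielandt.Basic

/-!
The standing hypotheses of the Thompson–Wielandt theorem for conjugate core-free maximal subgroups.
-/

set_option autoImplicit false

namespace CfsgLib.ThompsonWielandt

open Subgroup CfsgLib.Components

variable {G : Type*} [Group G] [Finite G]

theorem selfMax_of_coatom {M : Subgroup G} (hM : IsCoatom M) (hc : M.normalCore = ⊥) : SelfMax M := by
  intro X hX hXM hn
  rcases hM.le_iff.1 hn with h | h
  · exfalso
    haveI : X.Normal := normalizer_eq_top_iff.1 h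
    exact hX (le_bot_iff.1 (hc ▸ normal_le_normalCore.2 hXM))
  · exact h.le

theorem isCoatom_map_conj {M : Subgroup G} (hM : IsCoatom M) (g : G) :
    IsCoatom (M.map (MulAut.conj g).toMonoidHom) :=
  ((MulAut.conj g).mapSubgroup.isCoatom_iff M).2 hM

theorem normalCore_map_conj {M : Subgroup G} (hc : M.normalCore = ⊥) (g : G) :
    (M.map (MulAut.conj g).toMonoidHom).normalCore = ⊥ := by
  refine le_bot_iff.1 (hc ▸ normal_le_normalCore.2 fun x hx => ?_)
  obtain ⟨z, hz, e⟩ := normalCore_le _ (Normal.conj_mem inferInstance x hx g)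
  have e' : g * z * g⁻¹ = g * x * g⁻¹ := e
  have : z = x := mul_left_cancel (mul_right_cancel e')
  exact this ▸ hz

theorem map_pCoreIn_le (f : G ≃* G) (p : ℕ) (M : Subgroup G) :
    (pCoreIn p M).map f.toMonoidHom ≤ pCoreIn p (M.map f.toMonoidHom) :=
  le_pCoreIn (map_mono (pCoreIn_le p M))
    ((map_mono (le_normalizer_pCoreIn p M)).trans (le_normalizer_map _))
    ((pCoreIn_isPGroup p M).map _)

theorem card_pCoreIn_map (f : G ≃* G) (p : ℕ) (M : Subgroup G) :
    Nat.card ↥(pCoreIn p (M.map f.toMonoidHom)) = Nat.card ↥(pCoreIn p M) := by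
  have key : ∀ (f : G ≃* G) (M : Subgroup G),
      Nat.card ↥(pCoreIn p M) ≤ Nat.card ↥(pCoreIn p (M.map f.toMonoidHom)) := by
    intro f M
    rw [← card_map_of_injective (K := pCoreIn p M) (f := f.toMonoidHom) f.injective]
    exact card_le_of_le (map_pCoreIn_le f p M)
  refine le_antisymm ?_ (key f M)
  have h := key f.symm (M.map f.toMonoidHom)
  have e : (M.map f.toMonoidHom).map f.symm.toMonoidHom = M := by
    rw [map_map]
    convert map_id M
    ext x
    simp
  rwa [e] at h

theorem pair_of_conj {M N : Subgroup G} (hM : IsCoatom M) (hc : M.normalCore = ⊥) (g : G)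
    (hN : N = M.map (MulAut.conj g).toMonoidHom) (hne : M ≠ N) (h1 : two M N ≠ ⊥) (h2 : two N M ≠ ⊥) :
    Pair M N := by
  have hN' : IsCoatom N := hN ▸ isCoatom_map_conj hM g
  refine ⟨selfMax_of_coatom hM hc, selfMax_of_coatom hN' (hN ▸ normalCore_map_conj hc g), ?_, ?_, h1, h2⟩
  · intro h
    exact hne ((hM.le_iff.1 h).resolve_left hN'.1).symm
  · intro h
    exact hne ((hN'.le_iff.1 h).resolve_left hM.1)

/-- The Thompson–Wielandt theorem for conjugate core-free maximal subgroups. -/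
theorem main_conj {M N : Subgroup G} (hM : IsCoatom M) (hc : M.normalCore = ⊥) (g : G)
    (hN : N = M.map (MulAut.conj g).toMonoidHom) (hne : M ≠ N) (h1 : two M N ≠ ⊥) (h2 : two N M ≠ ⊥) :
    ∃ p : ℕ, p.Prime ∧ IsPGroup p ↥(two M N) ∧ IsPGroup p ↥(two N M) ∧ IsPGroup p ↥(two M N ⊔ two N M) ∧
      Cfsg.generalizedFittingSubgroup ↥M = Cfsg.pCore p ↥M ∧
      Cfsg.generalizedFittingSubgroup ↥(one M N) = Cfsg.pCore p ↥(one M N) ∧
      Cfsg.generalizedFittingSubgroup ↥N = Cfsg.pCore p ↥N ∧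
      Cfsg.generalizedFittingSubgroup ↥(one N M) = Cfsg.pCore p ↥(one N M) :=
  main (pair_of_conj hM hc g hN hne h1 h2) fun p => (hN ▸ card_pCoreIn_map (MulAut.conj g) p M).symm

end CfsgLib.ThompsonWielandt
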