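import Cfsg.Agent.Components.Basic
import Cfsg.Agent.Components.CharP
import Cfsg.Agent.Components.Fixed
import Cfsg.Agent.ResidualJoin.Basic
import Cfsg.Agent.S2820
import Cfsg.Agent.CoprimeAction.Basic

/-!
The Thompson–Wielandt theorem for two subgroups `M`, `N` each of which is the normaliser of each of its
nontrivial normal subgroups: if both second cores are nontrivial they are `p`-groups and `M`, `N` and their
first cores have characteristic `p`.
-/

set_option autoImplicit false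
set_option linter.style.haveILetI false

namespace CfsgLib.ThompsonWielandt

open Subgroup CfsgLib.Components

variable {G : Type*} [Group G]

/-- The core of `D` in `M`, as a subgroup of `G`. -/
def core (D M : Subgroup G) : Subgroup G := ((D.subgroupOf M).normalCore).map M.subtype

/-- The first core of the pair. -/
def one (M N : Subgroup G) : Subgroup G := core (M ⊓ N) M

/-- The second core of the pair. -/
def two (M N : Subgroup G) : Subgroup G := core (one M N ⊓ one N M) M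

theorem mem_core {D M : Subgroup G} {x : G} :
    x ∈ core D M ↔ x ∈ M ∧ ∀ m ∈ M, m * x * m⁻¹ ∈ D := by
  constructor
  · rintro ⟨y, hy, rfl⟩
    exact ⟨y.2, fun m hm => hy ⟨m, hm⟩⟩
  · rintro ⟨hx, h⟩
    exact ⟨⟨x, hx⟩, fun m => h m m.2, rfl⟩

theorem core_le (D M : Subgroup G) : core D M ≤ M := map_subtype_le _

theorem core_le_left (D M : Subgroup G) : core D M ≤ D := fun x hx => by
  simpa using (mem_core.1 hx).2 1 (one_mem M)

theorem le_core {D M U : Subgroup G} (hM : U ≤ M) (hD : U ≤ D) (hn : M ≤ normalizer (U : Set G)) :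
    U ≤ core D M := fun x hx =>
  mem_core.2 ⟨hM hx, fun m hm => hD ((mem_normalizer_iff.1 (hn hm) x).1 hx)⟩

theorem conj_core {D M : Subgroup G} {m x : G} (hm : m ∈ M) (hx : x ∈ core D M) : m * x * m⁻¹ ∈ core D M := by
  rw [mem_core] at hx ⊢
  refine ⟨mul_mem (mul_mem hm hx.1) (inv_mem hm), fun n hn => ?_⟩
  simpa [mul_assoc] using hx.2 (n * m) (mul_mem hn hm)

theorem le_normalizer_core (D M : Subgroup G) : M ≤ normalizer (core D M : Set G) := fun m hm =>
  mem_normalizer_iff.2 fun x => ⟨conj_core hm, fun h => by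
    simpa [mul_assoc] using conj_core (inv_mem hm) h⟩

theorem one_le (M N : Subgroup G) : one M N ≤ M := core_le _ _

theorem one_le_right (M N : Subgroup G) : one M N ≤ N := (core_le_left _ _).trans inf_le_right

theorem two_le_one (M N : Subgroup G) : two M N ≤ one M N := (core_le_left _ _).trans inf_le_left

theorem two_le_one' (M N : Subgroup G) : two M N ≤ one N M := (core_le_left _ _).trans inf_le_right

theorem le_one {M N U : Subgroup G} (hM : U ≤ M) (hN : U ≤ N) (hn : M ≤ normalizer (U : Set G)) :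
    U ≤ one M N := le_core hM (le_inf hM hN) hn

/-- `K` is a component of `X`. -/
def CompIn (X K : Subgroup G) : Prop := K ≤ X ∧ Cfsg.IsComponent (K.subgroupOf X)

theorem compIn_of_normal {X Y K : Subgroup G} (hXY : X ≤ Y) (hn : Y ≤ normalizer (X : Set G))
    (hK : CompIn X K) : CompIn Y K := by
  refine ⟨hK.1.trans hXY, ?_⟩
  haveI : (X.subgroupOf Y).Normal := (normal_subgroupOf_iff_le_normalizer hXY).2 hn
  have hsn : (X.subgroupOf Y).IsSubnormal := (inferInstance : (X.subgroupOf Y).Normal).isSubnormal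
  have h1 := isComponent_map_subtype hsn (isComponent_map_equiv (subgroupOfEquivOfLe hXY).symm hK.2)
  convert h1 using 1
  ext ⟨y, hy⟩
  constructor
  · intro h
    exact ⟨⟨⟨y, hy⟩, hK.1 h⟩, ⟨⟨y, hK.1 h⟩, h, rfl⟩, rfl⟩
  · rintro ⟨_, ⟨z, hz, rfl⟩, e⟩
    have : (z : G) = y := congrArg Subtype.val e
    exact this ▸ hz

theorem compIn_restrict [Finite G] {X Y K : Subgroup G} (hXY : X ≤ Y) (hKX : K ≤ X) (hK : CompIn Y K) :
    CompIn X K := ⟨hKX, isComponent_restrict hKX hXY hK.2⟩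

variable [Finite G] {M N : Subgroup G}

/-- `M` contains the normaliser of each of its nontrivial normal subgroups. -/
def SelfMax (M : Subgroup G) : Prop :=
  ∀ X : Subgroup G, X ≠ ⊥ → X ≤ M → M ≤ normalizer (X : Set G) → normalizer (X : Set G) ≤ M

/-- The standing hypotheses. -/
structure Pair (M N : Subgroup G) : Prop where
  maxM : SelfMax M
  maxN : SelfMax N
  hMN : ¬ M ≤ N
  hNM : ¬ N ≤ M
  twoM : two M N ≠ ⊥
  twoN : two N M ≠ ⊥

theorem Pair.symm (h : Pair M N) : Pair N M := ⟨h.maxN, h.maxM, h.hNM, h.hMN, h.twoN, h.twoM⟩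

theorem Pair.eq_bot (h : Pair M N) {X : Subgroup G} (hM : X ≤ M) (h1 : M ≤ normalizer (X : Set G))
    (h2 : N ≤ normalizer (X : Set G)) : X = ⊥ := by
  by_contra hne
  exact h.hNM (h2.trans (h.maxM X hne hM h1))

theorem Pair.centralizer_one_le (h : Pair M N) : M ⊓ centralizer (one M N : Set G) ≤ one M N := by
  haveI : ((M ⊓ centralizer (one M N : Set G))).FiniteIndex := inferInstance
  refine le_one inf_le_left ?_ fun m hm => ?_
  · intro x hx
    have h1 : x ∈ centralizer (two N M : Set G) := centralizer_le (two_le_one' N M) hx.2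
    exact h.maxN _ h.twoN (core_le _ _) (le_normalizer_core _ _) (centralizer_le_normalizer _ h1)
  · refine Subgroup.mem_normalizer_fintype fun x hx => Subgroup.mem_inf.2 ⟨mul_mem (mul_mem hm hx.1) (inv_mem hm), ?_⟩
    rw [mem_centralizer_iff]
    intro a ha
    have ha' : m⁻¹ * a * m ∈ one M N := by
          show m⁻¹ * a * m ∈ core (M ⊓ N) M
          simpa using conj_core (inv_mem hm) ha
    have := mem_centralizer_iff.1 hx.2 _ ha'
    calc a * (m * x * m⁻¹) = m * ((m⁻¹ * a * m) * x) * m⁻¹ := by group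
      _ = _ := by rw [this]; group

theorem compIn_le_one (h : Pair M N) {X K : Subgroup G} (hXM : X ≤ M) (hAX : one M N ≤ X)
    (hK : CompIn X K) : K ≤ one M N := by
  have hn : ((one M N).subgroupOf X).Normal :=
    (normal_subgroupOf_iff_le_normalizer hAX).2 (hXM.trans (le_normalizer_core _ _))
  rcases component_le_or_commute hK.2 hn.isSubnormal with h1 | h1
  · exact fun x hx => h1 (show (⟨x, hK.1 hx⟩ : ↥X) ∈ K.subgroupOf X from hx)
  · refine fun x hx => h.centralizer_one_le ⟨hXM (hK.1 hx), ?_⟩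
    have h3 := commutator_subgroupOf_eq_bot hK.1 hAX h1
    exact (commutator_eq_bot_iff_le_centralizer.1 h3) hx

theorem compIn_iff (h : Pair M N) (K : Subgroup G) : CompIn M K ↔ CompIn (M ⊓ N) K := by
  constructor
  · intro hK
    exact compIn_restrict inf_le_left ((compIn_le_one h le_rfl (one_le M N) hK).trans
      (core_le_left _ _)) hK
  · intro hK
    have h1 := compIn_le_one h inf_le_left (core_le_left _ _) hK
    exact compIn_of_normal (one_le M N) (le_normalizer_core _ _)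
      (compIn_restrict (core_le_left _ _) h1 hK)

theorem Pair.layer_eq_bot (h : Pair M N) : Cfsg.layer ↥M = ⊥ := by
  let L : Subgroup G → Subgroup G := fun X => (Cfsg.layer ↥X).map X.subtype
  have hL : ∀ X Y : Subgroup G, (∀ K, CompIn X K → CompIn Y K) → L X ≤ L Y := by
    intro X Y hXY
    refine map_le_iff_le_comap.2 (sSup_le fun K hK => ?_)
    intro x hx
    have hc : CompIn X (K.map X.subtype) := by
      refine ⟨map_subtype_le _, ?_⟩
      rwa [subgroupOf, comap_map_eq_self_of_injective X.subtype_injective]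
    have h2 := hXY _ hc
    exact ⟨⟨x, h2.1 ⟨x, hx, rfl⟩⟩, component_le_layer h2.2 ⟨x, hx, rfl⟩, rfl⟩
  have hn : ∀ X : Subgroup G, X ≤ normalizer (L X : Set G) := fun X g hg => by
    haveI : (Cfsg.layer ↥X).Normal := layer_normal
    rw [mem_normalizer_iff]
    intro x
    constructor
    · rintro ⟨y, hy, rfl⟩
      exact ⟨⟨g, hg⟩ * y * ⟨g, hg⟩⁻¹, Normal.conj_mem inferInstance y hy _, rfl⟩
    · rintro ⟨y, hy, e⟩
      refine ⟨⟨g, hg⟩⁻¹ * y * ⟨g, hg⟩, by simpa using Normal.conj_mem (inferInstance : (Cfsg.layer ↥X).Normal) y hy ⟨g, hg⟩⁻¹, ?_⟩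
      show g⁻¹ * X.subtype y * g = x
      rw [e]; group
  have e1 : L M = L (M ⊓ N) :=
    le_antisymm (hL _ _ fun K => (compIn_iff h K).1) (hL _ _ fun K => (compIn_iff h K).2)
  have e2 : L N = L (M ⊓ N) := by
    rw [inf_comm]
    exact le_antisymm (hL _ _ fun K => (compIn_iff h.symm K).1) (hL _ _ fun K => (compIn_iff h.symm K).2)
  have h0 : L M = ⊥ := h.eq_bot (map_subtype_le _) (hn M) (by rw [e1, ← e2]; exact hn N)
  exact (map_eq_bot_iff_of_injective _ M.subtype_injective).1 h0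

/-- A subgroup without components in which all but one core are trivial has characteristic `p`. -/
theorem fstar_eq {X : Type*} [Group X] [Finite X] (hl : Cfsg.layer X = ⊥) {p : ℕ} [Fact p.Prime]
    (hs : ∀ s : ℕ, s.Prime → s ≠ p → Cfsg.pCore s X = ⊥) :
    Cfsg.generalizedFittingSubgroup X = Cfsg.pCore p X := by
  rw [Cfsg.generalizedFittingSubgroup, hl, bot_sup_eq, fittingSubgroup_eq_iSup]
  refine le_antisymm (iSup_le fun q => ?_) ?_
  · have hq := Nat.prime_of_mem_primeFactors q.2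
    by_cases hqp : (q : ℕ) = p
    · rw [hqp]
    · rw [hs q hq hqp]; exact bot_le
  · rw [← fittingSubgroup_eq_iSup]
    exact pCore_le_fittingSubgroup p

theorem exists_prime_core (h : Pair M N) :
    ∃ q : ℕ, q.Prime ∧ pCoreIn q (two M N) ≠ ⊥ := by
  by_contra hne
  push Not at hne
  set T := two M N with hT
  have hl : Cfsg.layer ↥T = ⊥ := by
    refine layer_eq_bot_of_no_component fun K hK => ?_
    have hc : CompIn T (K.map T.subtype) := by
      refine ⟨map_subtype_le _, ?_⟩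
      rwa [subgroupOf, comap_map_eq_self_of_injective T.subtype_injective]
    have h2 := (compIn_of_normal (core_le _ _) (le_normalizer_core _ _) hc).2
    have h3 := component_le_layer h2
    rw [h.layer_eq_bot, le_bot_iff, subgroupOf_eq_bot] at h3
    have h4 : K.map T.subtype = ⊥ := by
      rw [← h3.eq_bot_of_le (le_of_eq rfl |>.trans ((map_subtype_le K).trans (core_le _ _)))]
    exact quasisimple_not_nilpotent hK.2 (by
      rw [(map_eq_bot_iff_of_injective _ T.subtype_injective).1 h4]; infer_instance)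
  have hF : Cfsg.generalizedFittingSubgroup ↥T = ⊥ := by
    rw [Cfsg.generalizedFittingSubgroup, hl, bot_sup_eq, fittingSubgroup_eq_iSup, iSup_eq_bot]
    intro q
    exact (map_eq_bot_iff_of_injective _ T.subtype_injective).1 (hne q (Nat.prime_of_mem_primeFactors q.2))
  refine h.twoM ?_
  rw [eq_bot_iff]
  intro x hx
  have h5 : (⟨x, hx⟩ : ↥T) ∈ Cfsg.generalizedFittingSubgroup ↥T :=
    centralizer_generalizedFittingSubgroup_le (mem_centralizer_iff.2 fun y hy => by
      rw [hF, SetLike.mem_coe, Subgroup.mem_bot] at hy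
      rw [hy, one_mul, mul_one])
  rw [hF, Subgroup.mem_bot] at h5
  exact congrArg Subtype.val h5

theorem pCoreIn_mono_normal {p : ℕ} {X Y : Subgroup G} (hXY : X ≤ Y) (hn : Y ≤ normalizer (X : Set G)) :
    pCoreIn p X ≤ pCoreIn p Y :=
  le_pCoreIn ((pCoreIn_le p X).trans hXY) (hn.trans (normalizer_le_normalizer_pCoreIn p X))
    (pCoreIn_isPGroup p X)

theorem le_normalizer_pCoreIn (p : ℕ) (X : Subgroup G) : X ≤ normalizer (pCoreIn p X : Set G) :=
  le_normalizer.trans (normalizer_le_normalizer_pCoreIn p X)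

theorem eq_one_of_mem_coprime {q s : ℕ} (hq : q.Prime) (hs : s.Prime) (hqs : q ≠ s) {X Y : Subgroup G}
    (hX : IsPGroup q ↥X) (hY : IsPGroup s ↥Y) {z : G} (h1 : z ∈ X) (h2 : z ∈ Y) : z = 1 := by
  haveI := Fact.mk hq; haveI := Fact.mk hs
  exact Subgroup.disjoint_def.1 (IsPGroup.disjoint_of_ne q s hqs X Y hX hY) h1 h2

/-- The cores away from `q`, where `q` is a prime dividing the second core of the other side. -/
theorem Pair.away (h : Pair M N) {q : ℕ} (hq : q.Prime) (hqN : pCoreIn q (two N M) ≠ ⊥) :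
    pCoreIn q (two N M) ≤ pCoreIn q M ∧
      ∀ s : ℕ, s.Prime → s ≠ q → pCoreIn s M ≤ one M N ∧ pCoreIn s M = pCoreIn s (M ⊓ N) := by
  set Z := pCoreIn q (two N M) with hZ
  have hZA : Z ≤ one M N := (pCoreIn_le _ _).trans (two_le_one' N M)
  have hNZ : N ≤ normalizer (Z : Set G) :=
    (le_normalizer_core _ _).trans (normalizer_le_normalizer_pCoreIn _ _)
  have hCZ : centralizer (Z : Set G) ≤ N :=
    (centralizer_le_normalizer _).trans (h.maxN Z hqN ((pCoreIn_le _ _).trans (core_le _ _)) hNZ)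
  have hA : pCoreIn q (one M N) ≤ pCoreIn q M := pCoreIn_mono_normal (one_le M N) (le_normalizer_core _ _)
  have hZA' : Z ≤ pCoreIn q (one M N) :=
    le_pCoreIn hZA ((one_le_right M N).trans hNZ) (pCoreIn_isPGroup _ _)
  refine ⟨hZA'.trans hA, fun s hs hsq => ?_⟩
  have h1 : pCoreIn s M ≤ one M N := by
    refine le_one (pCoreIn_le _ _) (fun x hx => hCZ (mem_centralizer_iff.2 fun z hz => ?_)) (le_normalizer_pCoreIn _ _)
    have hzM : z ∈ pCoreIn q M := hA (hZA' hz)
    have hc : z * x * z⁻¹ * x⁻¹ = 1 := by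
      refine eq_one_of_mem_coprime hs hq hsq (pCoreIn_isPGroup s M) (pCoreIn_isPGroup q M) ?_
        (show z * x * z⁻¹ * x⁻¹ ∈ pCoreIn q M from ?_)
      · exact mul_mem ((mem_normalizer_iff.1 (le_normalizer_pCoreIn s M (pCoreIn_le _ _ hzM)) x).1 hx) (inv_mem hx)
      · rw [show z * x * z⁻¹ * x⁻¹ = z * (x * z⁻¹ * x⁻¹) by group]
        exact mul_mem hzM ((mem_normalizer_iff.1 (le_normalizer_pCoreIn q M (pCoreIn_le _ _ hx)) z⁻¹).1 (inv_mem hzM))
    calc z * x = (z * x * z⁻¹ * x⁻¹) * x * z := by group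
      _ = x * z := by rw [hc, one_mul]
  refine ⟨h1, le_antisymm ?_ ?_⟩
  · exact le_pCoreIn (h1.trans (core_le_left _ _)) (inf_le_left.trans (le_normalizer_pCoreIn _ _)) (pCoreIn_isPGroup _ _)
  · -- `O_s(D)` stabilises the first core modulo its `s`-core
    set O := pCoreIn s (one M N) with hO
    have hMO : M ≤ normalizer (O : Set G) :=
      (le_normalizer_core _ _).trans (normalizer_le_normalizer_pCoreIn _ _)
    let W : Subgroup G :=
      { carrier := {y | y ∈ M ∧ ∀ a ∈ one M N, a * y * a⁻¹ * y⁻¹ ∈ O}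
        one_mem' := ⟨one_mem M, fun a _ => by simp⟩
        mul_mem' := fun {u v} hu hv => ⟨mul_mem hu.1 hv.1, fun a ha => by
          have e : a * (u * v) * a⁻¹ * (u * v)⁻¹ = (a * u * a⁻¹ * u⁻¹) * (u * (a * v * a⁻¹ * v⁻¹) * u⁻¹) := by group
          rw [e]
          exact mul_mem (hu.2 a ha) ((mem_normalizer_iff.1 (hMO hu.1) _).1 (hv.2 a ha))⟩
        inv_mem' := fun {u} hu => ⟨inv_mem hu.1, fun a ha => by
          have e : a * u⁻¹ * a⁻¹ * u⁻¹⁻¹ = u⁻¹ * (a * u * a⁻¹ * u⁻¹)⁻¹ * u⁻¹⁻¹ := by group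
          rw [e]
          exact (mem_normalizer_iff.1 (hMO (inv_mem hu.1)) _).1 (inv_mem (hu.2 a ha))⟩ }
    have hWn : M ≤ normalizer (W : Set G) := fun m hm => Subgroup.mem_normalizer_fintype fun y hy =>
      ⟨mul_mem (mul_mem hm hy.1) (inv_mem hm), fun a ha => by
        have ha' : m⁻¹ * a * m ∈ one M N := by
          show m⁻¹ * a * m ∈ core (M ⊓ N) M
          simpa using conj_core (inv_mem hm) ha
        have e : a * (m * y * m⁻¹) * a⁻¹ * (m * y * m⁻¹)⁻¹ =
            m * ((m⁻¹ * a * m) * y * (m⁻¹ * a * m)⁻¹ * y⁻¹) * m⁻¹ := by group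
        rw [e]
        exact (mem_normalizer_iff.1 (hMO hm) _).1 (hy.2 _ ha')⟩
    have hWC : W ≤ centralizer (Z : Set G) := fun y hy => mem_centralizer_iff.2 fun z hz => by
      have hc : z * y * z⁻¹ * y⁻¹ = 1 := by
        refine eq_one_of_mem_coprime hs hq hsq (pCoreIn_isPGroup s (one M N)) (pCoreIn_isPGroup q (one M N))
          (hy.2 z (hZA hz)) ?_
        rw [show z * y * z⁻¹ * y⁻¹ = z * (y * z⁻¹ * y⁻¹) by group]
        exact mul_mem (hZA' hz) ((mem_normalizer_iff.1
          (((le_normalizer_core _ _).trans (normalizer_le_normalizer_pCoreIn q _)) hy.1) z⁻¹).1 (inv_mem (hZA' hz)))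
      calc z * y = (z * y * z⁻¹ * y⁻¹) * y * z := by group
        _ = y * z := by rw [hc, one_mul]
    have hWA : W ≤ one M N := le_one (fun y hy => hy.1) (hWC.trans hCZ) hWn
    have hAD : one M N ⊓ pCoreIn s (M ⊓ N) ≤ O := by
      refine le_pCoreIn inf_le_left (fun a ha => Subgroup.mem_normalizer_fintype fun x hx => Subgroup.mem_inf.2 ⟨?_, ?_⟩)
        ((pCoreIn_isPGroup s (M ⊓ N)).to_le inf_le_right)
      · exact mul_mem (mul_mem ha hx.1) (inv_mem ha)
      · exact (mem_normalizer_iff.1 (le_normalizer_pCoreIn _ _ (core_le_left _ _ ha)) x).1 hx.2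
    intro x hx
    have hxW : x ∈ W := by
      refine ⟨(pCoreIn_le _ _ hx).1, fun a ha => hAD (Subgroup.mem_inf.2 ⟨?_, ?_⟩)⟩
      · rw [show a * x * a⁻¹ * x⁻¹ = a * (x * a⁻¹ * x⁻¹) by group]
        exact mul_mem ha (conj_core (pCoreIn_le _ _ hx).1 (inv_mem ha))
      · exact mul_mem ((mem_normalizer_iff.1 (le_normalizer_pCoreIn _ _ (core_le_left _ _ ha)) x).1 hx) (inv_mem hx)
    exact pCoreIn_mono_normal (one_le M N) (le_normalizer_core _ _) (hAD ⟨hWA hxW, hx⟩)

/-- A normal `q`-subgroup of `M` lies in `D` if the normaliser of `O_q(D)` lies in `N`. -/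
theorem le_inter_of_normalizer {q : ℕ} [Fact q.Prime]
    (hQ : normalizer (pCoreIn q (M ⊓ N) : Set G) ≤ N) : pCoreIn q M ≤ M ⊓ N := by
  set P := pCoreIn q M with hP
  set Q := pCoreIn q (M ⊓ N) with hQdef
  have hQP : Q ≤ normalizer (P : Set G) := (pCoreIn_le _ _).trans (inf_le_left.trans (le_normalizer_pCoreIn _ _))
  have hPD : P ⊓ N ≤ Q := by
    refine le_pCoreIn (inf_le_inf_right N (pCoreIn_le _ _)) ?_ ((pCoreIn_isPGroup q M).to_le inf_le_left)
    intro d hd
    exact Subgroup.mem_normalizer_fintype fun x hx => Subgroup.mem_inf.2 ⟨(mem_normalizer_iff.1 (le_normalizer_pCoreIn q M hd.1) x).1 hx.1,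
      mul_mem (mul_mem hd.2 hx.2) (inv_mem hd.2)⟩
  by_cases hlt : P ⊔ Q ≤ Q
  · exact (le_sup_left.trans hlt).trans (pCoreIn_le _ _)
  exfalso
  have hp : IsPGroup q ↥(P ⊔ Q) := (pCoreIn_isPGroup q M).to_sup_of_normal_left' (pCoreIn_isPGroup q _) hQP
  haveI := hp.isNilpotent
  have hne : Q.subgroupOf (P ⊔ Q) < ⊤ := lt_top_iff_ne_top.2 fun h => hlt (subgroupOf_eq_top.1 h)
  obtain ⟨⟨x, hx⟩, hxN, hxQ⟩ := SetLike.exists_of_lt (Group.normalizerCondition_of_isNilpotent _ hne)
  have hxnQ : x ∈ normalizer (Q : Set G) := Subgroup.mem_normalizer_fintype fun y hy =>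
    ((mem_normalizer_iff.1 hxN ⟨y, (le_sup_right : Q ≤ _) hy⟩).1 hy : _)
  obtain ⟨u, hu, v, hv, rfl⟩ : ∃ u ∈ P, ∃ v ∈ Q, u * v = x := by
    rw [sup_comm] at hx
    obtain ⟨v, hv, u, hu, e⟩ := CfsgLib.CoprimeAction.exists_mul_of_mem_sup hQP hx
    exact ⟨v * u * v⁻¹, (mem_normalizer_iff.1 (hQP hv) u).1 hu, v, hv, by rw [← e]; group⟩
  have huN : u ∈ normalizer (Q : Set G) := by
    simpa using mul_mem hxnQ (inv_mem (le_normalizer hv))
  exact hxQ (mul_mem (hPD ⟨hu, hQ huN⟩) hv)

theorem Pair.prime_eq (h : Pair M N) {q r : ℕ} (hq : q.Prime) (hr : r.Prime)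
    (hqN : pCoreIn q (two N M) ≠ ⊥) (hrM : pCoreIn r (two M N) ≠ ⊥) : q = r := by
  by_contra hne
  have key : ∀ r' : ℕ, r'.Prime → r' ≠ q → pCoreIn r' (two M N) ≠ ⊥ → pCoreIn q (two M N) ≠ ⊥ := by
    intro r' hr' hne' hr'M
    haveI := Fact.mk hq
    obtain ⟨hZ, -⟩ := h.away hq hqN
    obtain ⟨-, hN⟩ := h.symm.away hr' hr'M
    obtain ⟨hq1, hq2⟩ := hN q hq (Ne.symm hne')
    have hQne : pCoreIn q N ≠ ⊥ := fun h0 => hqN (le_bot_iff.1 (h0 ▸
      pCoreIn_mono_normal (core_le _ _) (le_normalizer_core _ _)))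
    have hPD : pCoreIn q M ≤ M ⊓ N := le_inter_of_normalizer (by
      rw [inf_comm, ← hq2]
      exact h.maxN _ hQne (pCoreIn_le _ _) (le_normalizer_pCoreIn _ _))
    have hPQ : pCoreIn q M ≤ pCoreIn q N := by
      rw [hq2, inf_comm N M]
      exact le_pCoreIn hPD (inf_le_left.trans (le_normalizer_pCoreIn _ _)) (pCoreIn_isPGroup _ _)
    have hP2 : pCoreIn q M ≤ two M N := le_core (pCoreIn_le _ _)
      (le_inf (le_one (pCoreIn_le _ _) (hPD.trans inf_le_right) (le_normalizer_pCoreIn _ _)) (hPQ.trans hq1))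
      (le_normalizer_pCoreIn _ _)
    intro h0
    refine hqN (le_bot_iff.1 (hZ.trans ?_))
    rw [← h0]
    exact le_pCoreIn hP2 ((core_le _ _).trans (le_normalizer_pCoreIn _ _)) (pCoreIn_isPGroup _ _)
  have hqM := key r hr (Ne.symm hne) hrM
  obtain ⟨-, hN1⟩ := h.symm.away hr hrM
  obtain ⟨hqq, hN2⟩ := h.symm.away hq hqM
  obtain ⟨-, hMq⟩ := h.away hq hqN
  have e : pCoreIn r M = pCoreIn r N := by
    rw [(hMq r hr (Ne.symm hne)).2, (hN2 r hr (Ne.symm hne)).2, inf_comm]
  refine hrM (le_bot_iff.1 ((pCoreIn_mono_normal (core_le _ _) (le_normalizer_core _ _)).trans ?_))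
  rw [le_bot_iff]
  exact h.eq_bot (pCoreIn_le _ _) (le_normalizer_pCoreIn _ _) (e ▸ le_normalizer_pCoreIn _ _)

theorem Pair.core_eq_bot (h : Pair M N) {p : ℕ} (hp : p.Prime) (hN : pCoreIn p (two N M) ≠ ⊥)
    (hM : pCoreIn p (two M N) ≠ ⊥) {s : ℕ} (hs : s.Prime) (hsp : s ≠ p) : pCoreIn s M = ⊥ := by
  obtain ⟨-, h1⟩ := h.away hp hN
  obtain ⟨-, h2⟩ := h.symm.away hp hM
  have e : pCoreIn s M = pCoreIn s N := by
    rw [(h1 s hs hsp).2, (h2 s hs hsp).2, inf_comm]
  exact h.eq_bot (pCoreIn_le _ _) (le_normalizer_pCoreIn _ _) (e ▸ le_normalizer_pCoreIn _ _)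

/-- Characteristic `p` of `M` and of its first core. -/
theorem Pair.charP (h : Pair M N) {p : ℕ} [Fact p.Prime] (hN : pCoreIn p (two N M) ≠ ⊥)
    (hM : pCoreIn p (two M N) ≠ ⊥) :
    Cfsg.generalizedFittingSubgroup ↥M = Cfsg.pCore p ↥M ∧
      Cfsg.generalizedFittingSubgroup ↥(one M N) = Cfsg.pCore p ↥(one M N) := by
  have hp : p.Prime := Fact.out
  refine ⟨fstar_eq h.layer_eq_bot fun s hs hsp =>
    (map_eq_bot_iff_of_injective _ M.subtype_injective).1 (h.core_eq_bot hp hN hM hs hsp), fstar_eq ?_ ?_⟩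
  · refine layer_eq_bot_of_no_component fun K hK => ?_
    have hc : CompIn (one M N) (K.map (one M N).subtype) := by
      refine ⟨map_subtype_le _, ?_⟩
      rwa [subgroupOf, comap_map_eq_self_of_injective (one M N).subtype_injective]
    have h3 := component_le_layer (compIn_of_normal (one_le M N) (le_normalizer_core _ _) hc).2
    rw [h.layer_eq_bot, le_bot_iff, subgroupOf_eq_bot] at h3
    have h4 : K.map (one M N).subtype = ⊥ := h3.eq_bot_of_le ((map_subtype_le K).trans (one_le M N))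
    exact quasisimple_not_nilpotent hK.2 (by
      rw [(map_eq_bot_iff_of_injective _ (one M N).subtype_injective).1 h4]; infer_instance)
  · intro s hs hsp
    refine (map_eq_bot_iff_of_injective _ (one M N).subtype_injective).1 (le_bot_iff.1 ?_)
    rw [← h.core_eq_bot hp hN hM hs hsp]
    exact pCoreIn_mono_normal (one_le M N) (le_normalizer_core _ _)

/-- A `p`-core normalises subnormal subgroups generated by their elements of order prime to `p`. -/
theorem pCoreIn_le_normalizer {p : ℕ} [Fact p.Prime] {Y X : Subgroup G} (hXY : X ≤ Y)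
    (hsn : (X.subgroupOf Y).IsSubnormal) (hX : ResidualJoin.R p X = X) :
    pCoreIn p Y ≤ normalizer (X : Set G) := by
  haveI : (Cfsg.pCore p ↥Y).Normal := Subgroup.sSup_normal _ fun _ h => h.1
  have hres : ResidualJoin.R p (X.subgroupOf Y) = X.subgroupOf Y := by
    apply map_injective Y.subtype_injective
    rw [ResidualJoin.map_subtype_R, subgroupOf_map_subtype, inf_eq_left.2 hXY, hX]
  have h1 := (Cfsg.Agent.S2820.result (Cfsg.pCore p ↥Y) (X.subgroupOf Y)
    (inferInstance : (Cfsg.pCore p ↥Y).Normal).isSubnormal hsn (pCore_isPGroup p) hres).1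
  rintro _ ⟨a, ha, rfl⟩
  exact Subgroup.mem_normalizer_fintype fun x hx => (mem_normalizer_iff.1 (h1 ha) ⟨x, hXY hx⟩).1 hx

/-- The second core is a `p`-group. -/
theorem Pair.isPGroup_two (h : Pair M N) {p : ℕ} [Fact p.Prime] (hN : pCoreIn p (two N M) ≠ ⊥)
    (hcard : Nat.card ↥(pCoreIn p M) = Nat.card ↥(pCoreIn p N)) : IsPGroup p ↥(two M N) := by
  by_contra hnp
  set X := ResidualJoin.R p (two M N) with hX
  have hXne : X ≠ ⊥ := fun h0 => hnp (CfsgLib.Components.isPGroup_of_no_coprime_elements fun x hx hc => by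
    have := ResidualJoin.mem_R hx hc
    rw [← hX, h0, Subgroup.mem_bot] at this
    exact this)
  have hMX : M ≤ normalizer (X : Set G) := (le_normalizer_core _ _).trans (ResidualJoin.le_normalizer_R _)
  have hXT : X ≤ two M N := ResidualJoin.R_le _
  have hXB : X ≤ one N M := hXT.trans (two_le_one' M N)
  have hXN : X ≤ N := hXB.trans (one_le N M)
  have hXM : X ≤ M := hXT.trans (core_le _ _)
  have hNX : normalizer (X : Set G) ≤ M := h.maxM X hXne hXM hMX
  have hXsn : (X.subgroupOf N).IsSubnormal := by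
    haveI : ((one N M).subgroupOf N).Normal :=
      (normal_subgroupOf_iff_le_normalizer (one_le N M)).2 (le_normalizer_core _ _)
    refine IsSubnormal.step _ ((one N M).subgroupOf N) (comap_mono hXB)
      (inferInstance : ((one N M).subgroupOf N).Normal).isSubnormal ?_
    refine (normal_subgroupOf_iff_le_normalizer (comap_mono hXB)).2 fun b hb => ?_
    have hb' : (b : G) ∈ normalizer (X : Set G) := hMX (one_le_right N M hb)
    exact mem_normalizer_iff.2 fun y => mem_normalizer_iff.1 hb' (y : G)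
  have hXX : ResidualJoin.R p X = X := ResidualJoin.R_R _
  set Q := pCoreIn p (M ⊓ N) with hQ
  -- the `p`-core of `N` lies in `D`
  have hP2 : pCoreIn p N ≤ Q :=
    le_pCoreIn (le_inf ((pCoreIn_le_normalizer hXN hXsn hXX).trans hNX) (pCoreIn_le _ _))
      (inf_le_right.trans (le_normalizer_pCoreIn _ _)) (pCoreIn_isPGroup _ _)
  -- the `p`-core of `D` lies in the first core of `N`
  have hQN : Q ≤ one N M := by
    intro x hx
    refine mem_core.2 ⟨(pCoreIn_le _ _ hx).2, fun n hn => Subgroup.mem_inf.2 ⟨mul_mem (mul_mem hn (pCoreIn_le _ _ hx).2) (inv_mem hn), ?_⟩⟩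
    set Xn := X.map (MulAut.conj n⁻¹).toMonoidHom with hXn
    have hXnD : Xn ≤ M ⊓ N := by
      rintro _ ⟨y, hy, rfl⟩
      have := conj_core (inv_mem hn) (hXB hy)
      exact ⟨one_le_right N M this, one_le N M this⟩
    have hsn : (Xn.subgroupOf (M ⊓ N)).IsSubnormal := by
      have h1 : (Xn.subgroupOf N).IsSubnormal := by
        have e : Xn.subgroupOf N = (X.subgroupOf N).map (MulAut.conj (⟨n, hn⟩⁻¹ : ↥N)).toMonoidHom := by
          ext y
          constructor
          · rintro ⟨z, hz, e⟩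
            exact ⟨⟨z, hXN hz⟩, hz, Subtype.ext e⟩
          · rintro ⟨z, hz, rfl⟩
            exact ⟨z, hz, rfl⟩
        rw [e]
        exact hXsn.map (MulEquiv.surjective (MulAut.conj (⟨n, hn⟩⁻¹ : ↥N)))
      exact h1.comap (Subgroup.inclusion (inf_le_right : M ⊓ N ≤ N))
    have hXnR : ResidualJoin.R p Xn = Xn := by rw [hXn, ← ResidualJoin.map_R, hXX]
    have hxn : x ∈ normalizer (Xn : Set G) := pCoreIn_le_normalizer hXnD hsn hXnR hx
    refine hNX (Subgroup.mem_normalizer_fintype fun y hy => ?_)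
    obtain ⟨z, hz, e⟩ := (mem_normalizer_iff.1 hxn _).1 ⟨y, hy, rfl⟩
    have e' : n⁻¹ * z * n⁻¹⁻¹ = x * (n⁻¹ * y * n⁻¹⁻¹) * x⁻¹ := e
    have : z = n * x * n⁻¹ * y * (n * x * n⁻¹)⁻¹ :=
      calc z = n * (n⁻¹ * z * n⁻¹⁻¹) * n⁻¹ := by group
        _ = _ := by rw [e']; group
    exact this ▸ hz
  have hQe : Q = pCoreIn p N := le_antisymm ((le_pCoreIn hQN
    (((one_le N M).trans' le_rfl |> fun h1 => le_inf (one_le_right N M) h1).trans (le_normalizer_pCoreIn _ _))
    (pCoreIn_isPGroup _ _)).trans (pCoreIn_mono_normal (one_le N M) (le_normalizer_core _ _))) hP2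
  have hP2ne : pCoreIn p N ≠ ⊥ := fun h0 => hN (le_bot_iff.1 (h0 ▸
    pCoreIn_mono_normal (core_le _ _) (le_normalizer_core _ _)))
  have hP1 : pCoreIn p M ≤ M ⊓ N := le_inter_of_normalizer (by
    rw [← hQ, hQe]; exact h.maxN _ hP2ne (pCoreIn_le _ _) (le_normalizer_pCoreIn _ _))
  have hle : pCoreIn p M ≤ pCoreIn p N :=
    hQe ▸ le_pCoreIn hP1 (inf_le_left.trans (le_normalizer_pCoreIn _ _)) (pCoreIn_isPGroup _ _)
  have e := eq_of_le_of_card_ge hle hcard.ge
  exact hP2ne (e ▸ h.eq_bot (pCoreIn_le _ _) (le_normalizer_pCoreIn _ _) (e ▸ le_normalizer_pCoreIn _ _))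

/-- The Thompson–Wielandt theorem. -/
theorem main (h : Pair M N) (hcard : ∀ p : ℕ, Nat.card ↥(pCoreIn p M) = Nat.card ↥(pCoreIn p N)) :
    ∃ p : ℕ, p.Prime ∧ IsPGroup p ↥(two M N) ∧ IsPGroup p ↥(two N M) ∧ IsPGroup p ↥(two M N ⊔ two N M) ∧
      Cfsg.generalizedFittingSubgroup ↥M = Cfsg.pCore p ↥M ∧
      Cfsg.generalizedFittingSubgroup ↥(one M N) = Cfsg.pCore p ↥(one M N) ∧
      Cfsg.generalizedFittingSubgroup ↥N = Cfsg.pCore p ↥N ∧
      Cfsg.generalizedFittingSubgroup ↥(one N M) = Cfsg.pCore p ↥(one N M) := by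
  obtain ⟨q, hq, hqN⟩ := exists_prime_core h.symm
  obtain ⟨r, hr, hrM⟩ := exists_prime_core h
  obtain rfl := h.prime_eq hq hr hqN hrM
  haveI := Fact.mk hq
  have h1 := h.isPGroup_two hqN (hcard q)
  have h2 := h.symm.isPGroup_two hrM (hcard q).symm
  exact ⟨q, hq, h1, h2, h1.to_sup_of_normal_right' h2
    (((two_le_one M N).trans (one_le_right M N)).trans (le_normalizer_core _ _)),
    (h.charP hqN hrM).1, (h.charP hqN hrM).2, (h.symm.charP hrM hqN).1, (h.symm.charP hrM hqN).2⟩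

end CfsgLib.ThompsonWielandt
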