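import Cfsg.Agent.ThompsonWielandt.Setup

/-!
The first and second cores of a pair of point stabilisers in a primitive group, and the index bound for
the second core.
-/

set_option autoImplicit false
set_option linter.unusedSectionVars false

namespace CfsgLib.ThompsonWielandt

open Subgroup MulAction

variable {G Ω : Type*} [Group G] [Finite G] [MulAction G Ω] [Finite Ω]

/-- The permutation representation of a subgroup on an invariant set. -/
def permHom (H : Subgroup G) (S : Set Ω) (hS : ∀ h ∈ H, ∀ x ∈ S, h • x ∈ S) : ↥H →* Equiv.Perm S where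
  toFun h :=
    { toFun := fun x => ⟨(h : G) • (x : Ω), hS h h.2 x x.2⟩
      invFun := fun x => ⟨(h : G)⁻¹ • (x : Ω), hS _ (inv_mem h.2) x x.2⟩
      left_inv := fun x => Subtype.ext (inv_smul_smul _ _)
      right_inv := fun x => Subtype.ext (smul_inv_smul _ _) }
  map_one' := Equiv.ext fun x => Subtype.ext (one_smul G (x : Ω))
  map_mul' h k := Equiv.ext fun x => Subtype.ext (mul_smul (h : G) (k : G) (x : Ω))

theorem fixes_of_mem_ker {H : Subgroup G} {S : Set Ω} {hS : ∀ h ∈ H, ∀ x ∈ S, h • x ∈ S} {h : ↥H}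
    (hh : h ∈ (permHom H S hS).ker) {x : Ω} (hx : x ∈ S) : (h : G) • x = x :=
  congrArg Subtype.val (Equiv.ext_iff.1 (show permHom H S hS h = 1 from hh) ⟨x, hx⟩)

theorem relIndex_dvd_factorial (H K : Subgroup G) (S : Set Ω) (hS : ∀ h ∈ H, ∀ x ∈ S, h • x ∈ S)
    (hK : ∀ h ∈ H, (∀ x ∈ S, h • x = x) → h ∈ K) : K.relIndex H ∣ (Nat.card S).factorial := by
  refine (index_dvd_of_le (H := (permHom H S hS).ker)
    fun h hh => mem_subgroupOf.2 (hK h h.2 fun x hx => fixes_of_mem_ker hh hx)).trans ?_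
  rw [index_ker, ← Nat.card_perm]
  exact card_subgroup_dvd_card _

theorem smul_mem_orbit_of_mem {M : Subgroup G} {b x : Ω} {h : G} (hh : h ∈ M) (hx : x ∈ orbit M b) :
    h • x ∈ orbit M b := by
  obtain ⟨m, rfl⟩ := hx
  exact ⟨(⟨h, hh⟩ : ↥M) * m, mul_smul _ _ _⟩

theorem mem_one_of_fixes {a b : Ω} {h : G} (hh : h ∈ stabilizer G a)
    (hfix : ∀ x ∈ orbit (stabilizer G a) b, h • x = x) : h ∈ one (stabilizer G a) (stabilizer G b) := by
  refine mem_core.2 ⟨hh, fun m hm => mem_inf.2 ⟨mul_mem (mul_mem hm hh) (inv_mem hm), ?_⟩⟩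
  rw [mem_stabilizer_iff, mul_smul, mul_smul,
    hfix _ (smul_mem_orbit_of_mem (inv_mem hm) (mem_orbit_self b)), smul_inv_smul]

theorem card_orbit_mul (M : Subgroup G) (b : Ω) :
    Nat.card (orbit M b) * Nat.card ↥(M ⊓ stabilizer G b) = Nat.card ↥M := by
  have e : stabilizer ↥M b = (M ⊓ stabilizer G b).subgroupOf M := by
    ext x
    simp [mem_subgroupOf, mem_stabilizer_iff, Subgroup.smul_def]
  rw [← Nat.card_congr (subgroupOfEquivOfLe (inf_le_left : M ⊓ stabilizer G b ≤ M)).toEquiv, ← e,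
    Nat.card_coe_set_eq, ← index_stabilizer, mul_comm, card_mul_index]

/-- The index of the second core divides `d! ((d-1)!)^d`. -/
theorem relIndex_two_dvd (a b : Ω) (d : ℕ) (hd : Nat.card (orbit (stabilizer G a) b) = d)
    (hd' : Nat.card (orbit (stabilizer G b) a) = d) :
    (two (stabilizer G a) (stabilizer G b)).relIndex (stabilizer G a) ∣
      d.factorial * (d - 1).factorial ^ d := by
  set M := stabilizer G a with hMdef
  set N := stabilizer G b with hNdef
  set S : Set Ω := orbit N a \ {a} with hSdef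
  have hS : ∀ h ∈ M ⊓ N, ∀ x ∈ S, h • x ∈ S := by
    intro h hh x hx
    refine ⟨smul_mem_orbit_of_mem hh.2 hx.1, fun e => hx.2 ?_⟩
    have e' : h • x = a := e
    have h1 : h⁻¹ • a = a := mem_stabilizer_iff.1 (inv_mem hh.1)
    rw [Set.mem_singleton_iff, ← h1, ← e', inv_smul_smul]
  have hScard : Nat.card S = d - 1 := by
    rw [Nat.card_coe_set_eq, hSdef, Set.ncard_sdiff_singleton_of_mem (mem_orbit_self a),
      ← Nat.card_coe_set_eq, hd']
  have hA : ∀ m ∈ M, ∀ x ∈ one M N, m⁻¹ * x * m ∈ M ⊓ N := fun m hm x hx => by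
    have := conj_core (inv_mem hm) hx
    rw [inv_inv] at this
    exact core_le_left _ _ this
  choose m hm using fun c : orbit M b => c.2
  let φ : orbit M b → (↥(one M N) →* ↥(M ⊓ N)) := fun c =>
    { toFun := fun x => ⟨((m c : ↥M) : G)⁻¹ * (x : G) * ((m c : ↥M) : G), hA _ (m c).2 _ x.2⟩
      map_one' := Subtype.ext (by simp)
      map_mul' := fun x y => Subtype.ext (by simp [mul_assoc]) }
  let f : ↥(one M N) →* (orbit M b → Equiv.Perm S) := MonoidHom.pi fun c => (permHom (M ⊓ N) S hS).comp (φ c)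
  have hker : f.ker ≤ (two M N).subgroupOf (one M N) := by
    intro x hx
    refine mem_subgroupOf.2 (mem_core.2 ⟨one_le M N x.2, fun n hn => mem_inf.2 ⟨conj_core hn x.2, ?_⟩⟩)
    let c : orbit M b := ⟨n⁻¹ • b, smul_mem_orbit_of_mem (inv_mem hn) (mem_orbit_self b)⟩
    have hd0 : (((m c : ↥M) : G))⁻¹ * n⁻¹ ∈ N := by
      have : ((m c : ↥M) : G) • b = n⁻¹ • b := hm c
      rw [hNdef, mem_stabilizer_iff, mul_smul, ← this, inv_smul_smul]
    have hfx : φ c x ∈ (permHom (M ⊓ N) S hS).ker := congrFun (show f x = 1 from hx) c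
    have hone : ((m c : ↥M) : G)⁻¹ * (x : G) * ((m c : ↥M) : G) ∈ one N M := by
      refine mem_one_of_fixes (φ c x).2.2 fun y hy => ?_
      by_cases hya : y = a
      · subst hya
        exact (φ c x).2.1
      · exact fixes_of_mem_ker hfx ⟨hy, hya⟩
    have := conj_core (D := N ⊓ M) (inv_mem hd0) hone
    convert this using 1
    all_goals first | rfl | group

  have h1 : (two M N).relIndex (one M N) ∣ (d - 1).factorial ^ d := by
    refine (index_dvd_of_le hker).trans ?_
    rw [index_ker]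
    refine (card_subgroup_dvd_card _).trans ?_
    rw [Nat.card_fun, Nat.card_perm, hScard, hd]
  have h2 : (one M N).relIndex M ∣ d.factorial :=
    hd ▸ relIndex_dvd_factorial M (one M N) _ (fun h hh x hx => smul_mem_orbit_of_mem hh hx)
      fun h hh hfix => mem_one_of_fixes hh hfix
  rw [← relIndex_mul_relIndex _ _ _ (two_le_one M N) (one_le M N), mul_comm d.factorial]
  exact mul_dvd_mul h1 h2

/-- The two stabilisers in a primitive group. -/
theorem orbital [FaithfulSMul G Ω] (hprim : IsPreprimitive G Ω) (a b : Ω) (d : ℕ)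
    (hd : Nat.card (orbit (stabilizer G a) b) = d) (h2 : 2 ≤ d) :
    ∃ g : G, g • a = b ∧ IsCoatom (stabilizer G a) ∧ (stabilizer G a).normalCore = ⊥ ∧
      stabilizer G b = (stabilizer G a).map (MulAut.conj g).toMonoidHom ∧ stabilizer G a ≠ stabilizer G b ∧
      Nat.card (orbit (stabilizer G b) a) = d := by
  obtain ⟨g, hg⟩ := exists_smul_eq G a b
  have hab : a ≠ b := by
    rintro rfl
    have : orbit (stabilizer G a) a = {a} :=
      Set.eq_singleton_iff_unique_mem.2 ⟨mem_orbit_self a, fun x ⟨m, hx⟩ => hx ▸ m.2⟩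
    rw [this, Nat.card_coe_set_eq, Set.ncard_singleton] at hd
    omega
  haveI : Nontrivial Ω := ⟨⟨a, b, hab⟩⟩
  have hmax : IsCoatom (stabilizer G a) := (isCoatom_stabilizer_iff_preprimitive (G := G) a).2 hprim
  have hN : stabilizer G b = (stabilizer G a).map (MulAut.conj g).toMonoidHom := by
    rw [← hg, stabilizer_smul_eq_stabilizer_map_conj]

  refine ⟨g, hg, hmax, ?_, hN, ?_, ?_⟩
  · refine le_bot_iff.1 fun x hx => mem_bot.2 ?_
    refine eq_of_smul_eq_smul (α := Ω) fun y => ?_
    obtain ⟨k, rfl⟩ := exists_smul_eq G a y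
    have := normalCore_le _ (Normal.conj_mem inferInstance x hx k⁻¹)
    rw [inv_inv, mem_stabilizer_iff, mul_smul, mul_smul, inv_smul_eq_iff] at this
    rw [this, one_smul]
  · intro e
    have : orbit (stabilizer G a) b = {b} := Set.eq_singleton_iff_unique_mem.2
      ⟨mem_orbit_self b, fun x ⟨m, hx⟩ => hx ▸ (show (m : G) ∈ stabilizer G b from e ▸ m.2)⟩
    rw [this, Nat.card_coe_set_eq, Set.ncard_singleton] at hd
    omega
  · have c1 := card_orbit_mul (stabilizer G a) b
    have c2 := card_orbit_mul (stabilizer G b) a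
    rw [inf_comm] at c2
    have c3 : Nat.card ↥(stabilizer G b) = Nat.card ↥(stabilizer G a) := by
      rw [hN]
      exact card_map_of_injective (MulAut.conj g).injective
    rw [c3, ← c1, hd] at c2
    exact Nat.eq_of_mul_eq_mul_right Nat.card_pos c2

/-- Either both second cores are nontrivial or the stabiliser is small. -/
theorem two_ne_bot_or_card_dvd [FaithfulSMul G Ω] (hprim : IsPreprimitive G Ω) (a b : Ω) (d : ℕ)
    (hd : Nat.card (orbit (stabilizer G a) b) = d) (h2 : 2 ≤ d) :
    (two (stabilizer G a) (stabilizer G b) ≠ ⊥ ∧ two (stabilizer G b) (stabilizer G a) ≠ ⊥) ∨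
      Nat.card ↥(stabilizer G a) ∣ d.factorial * (d - 1).factorial ^ d := by
  obtain ⟨g, -, -, -, hN, -, hd'⟩ := orbital hprim a b d hd h2
  by_cases h : two (stabilizer G a) (stabilizer G b) = ⊥
  · right
    have := relIndex_two_dvd a b d hd hd'
    rwa [h, relIndex_bot_left] at this
  by_cases h' : two (stabilizer G b) (stabilizer G a) = ⊥
  · right
    have := relIndex_two_dvd b a d hd' hd
    rw [h', relIndex_bot_left] at this
    rwa [hN, card_map_of_injective (f := (MulAut.conj g).toMonoidHom) (MulAut.conj g).injective] at this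
  exact Or.inl ⟨h, h'⟩

end CfsgLib.ThompsonWielandt
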